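import Groth.Agent.H24SmDef.Global
import Groth.Agent.H17.OpenPushout
import Groth.Agent.H17.TwoGlue
import Groth.Agent.H7Lim.FPDescent.Glue

/-!
# Liftings of deformations over opens, and gluing two of them
-/

set_option autoImplicit false
set_option linter.style.haveILetI false

universe u

open CategoryTheory CategoryTheory.Limits AlgebraicGeometry IsLocalRing ArtFun ArtFun.Art Opposite
open TopologicalSpace

noncomputable section

namespace Groth.Agent.H24CurveDef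

open Groth.Agent.H24DefTan Groth.Agent.H24SmDef

variable {k : Type u} [Field k] {X : Scheme.{u}} {x : X ⟶ specPt k} {A B : Art k k} (μ : B ⟶ A)

/-- A lifting of a deformation over an open along a map of bases. -/
structure Lift (ξ : DefSch X x A) (V : X.Opens) : Type (u + 1) where
  /-- the total space -/
  T : Scheme.{u}
  /-- the structure map -/
  f : T ⟶ spec B
  flat : Flat f
  /-- the inclusion -/
  j : (up ξ V).toScheme ⟶ T
  sq : IsPullback j ((up ξ V).ι ≫ ξ.f) f (specMap μ)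

variable {μ} (hμ : Function.Surjective μ) {ξ : DefSch X x A}

include hμ in
theorem Lift.isHomeomorph {V : X.Opens} (L : Lift μ ξ V) : IsHomeomorph L.j := by
  haveI : IsClosedImmersion (specMap μ) := H28Def.hom_toRingHom_surj μ hμ
  haveI : Surjective (specMap μ) := H28Def.surjective_specMap μ
  haveI : IsClosedImmersion L.j := MorphismProperty.of_isPullback L.sq.flip ‹IsClosedImmersion (specMap μ)›
  haveI : Surjective L.j := MorphismProperty.of_isPullback L.sq.flip ‹Surjective (specMap μ)›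
  exact isHomeomorph_iff_isEmbedding_surjective.2 ⟨L.j.isClosedEmbedding.isEmbedding, L.j.surjective⟩

include hμ in
theorem Lift.exists_restrict {V W : X.Opens} (L : Lift μ ξ V) (h : W ≤ V) :
    ∃ (O : L.T.Opens) (j : (up ξ W).toScheme ⟶ O.toScheme),
      IsPullback j (ξ.total.homOfLE (up_mono ξ h)) O.ι L.j ∧
        IsPullback j ((up ξ W).ι ≫ ξ.f) (O.ι ≫ L.f) (specMap μ) := by
  let a := ξ.total.homOfLE (up_mono ξ h)
  let O : L.T.Opens := ⟨L.j '' Set.range a, (L.isHomeomorph hμ).isOpenMap _ a.isOpenEmbedding.isOpen_range⟩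
  have hr : Set.range (a ≫ L.j) ⊆ Set.range O.ι := by
    rintro _ ⟨p, rfl⟩
    rw [Scheme.Opens.range_ι]
    exact ⟨a p, ⟨p, rfl⟩, rfl⟩
  let j := IsOpenImmersion.lift O.ι (a ≫ L.j) hr
  have h1 : IsPullback j a O.ι L.j := by
    refine IsOpenImmersion.isPullback j a O.ι L.j (IsOpenImmersion.lift_fac _ _ _).symm ?_
    rw [Scheme.Opens.opensRange_ι]
    exact Opens.ext (Set.preimage_image_eq _ (L.isHomeomorph hμ).injective)
  refine ⟨O, j, h1, ?_⟩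
  have h2 := h1.paste_vert L.sq
  rwa [← Category.assoc, Scheme.homOfLE_ι] at h2

/-- A deformation restricted to an open of the closed fibre. -/
def resDef (ξ : DefSch X x A) (W : X.Opens) : DefSch W.toScheme (W.ι ≫ x) A where
  total := (up ξ W).toScheme
  f := (up ξ W).ι ≫ ξ.f
  flat := by haveI := ξ.flat; infer_instance
  i := IsOpenImmersion.lift (up ξ W).ι (W.ι ≫ ξ.i) (by
    rintro _ ⟨p, rfl⟩
    rw [Scheme.Opens.range_ι]
    exact ⟨p.1, p.2, rfl⟩)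
  isPullback := (IsOpenImmersion.isPullback _ W.ι (up ξ W).ι ξ.i (IsOpenImmersion.lift_fac _ _ _).symm (by
    rw [Scheme.Opens.opensRange_ι, Scheme.Opens.opensRange_ι, preimage_up])).paste_vert ξ.isPullback

/-- A map of deformations of an affine scheme is determined by its map on global sections. -/
theorem Mor.hom_ext_top {g : A ⟶ B} {η : DefSch X x A} {ζ : DefSch X x B} (hX : IsAffineOpen (⊤ : X.Opens))
    (m m' : Mor g η ζ) (h : ∀ r, m.app ⊤ r = m'.app ⊤ r) : m.hom = m'.hom := by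
  have hζ := isAffineOpen_up ζ hX
  have hη := isAffineOpen_up η hX
  have htop : up ζ ⊤ = ⊤ := top_unique fun p _ => by
    obtain ⟨q, rfl⟩ := (H28Def.isClosedImmersion_i ζ).2 p
    exact ⟨q, trivial, rfl⟩
  haveI : Epi hζ.fromSpec := by
    haveI : Surjective hζ.fromSpec := ⟨fun p => by
      have := hζ.range_fromSpec.ge (show p ∈ (up ζ ⊤ : Set ζ.total) by rw [htop]; trivial)
      exact this⟩
    haveI : IsIso hζ.fromSpec := (isIso_iff_isOpenImmersion_and_surjective _).2 ⟨inferInstance, inferInstance⟩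
    infer_instance
  rw [← cancel_epi hζ.fromSpec, ← IsAffineOpen.SpecMap_appLE_fromSpec m.hom hη hζ (m.up_le ⊤),
    ← IsAffineOpen.SpecMap_appLE_fromSpec m'.hom hη hζ (m'.up_le ⊤)]
  congr 2
  ext r
  exact h r

include hμ in
/-- Over an affine open smooth over the field two liftings are isomorphic. -/
theorem exists_iso {W : X.Opens} (hW : IsAffineOpen W) [Smooth (W.ι ≫ x)] {T₁ T₂ : Scheme.{u}}
    {f₁ : T₁ ⟶ spec B} {f₂ : T₂ ⟶ spec B} (hf₁ : Flat f₁) (hf₂ : Flat f₂)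
    {j₁ : (up ξ W).toScheme ⟶ T₁} {j₂ : (up ξ W).toScheme ⟶ T₂}
    (h₁ : IsPullback j₁ ((up ξ W).ι ≫ ξ.f) f₁ (specMap μ))
    (h₂ : IsPullback j₂ ((up ξ W).ι ≫ ξ.f) f₂ (specMap μ)) :
    ∃ e : T₁ ≅ T₂, e.hom ≫ f₂ = f₁ ∧ j₁ ≫ e.hom = j₂ := by
  let mk : ∀ {T : Scheme.{u}} (f : T ⟶ spec B) (_ : Flat f) (j : (up ξ W).toScheme ⟶ T)
      (_ : IsPullback j ((up ξ W).ι ≫ ξ.f) f (specMap μ)), DefSch W.toScheme (W.ι ≫ x) B :=
    fun {T} f hf j hj => ⟨T, f, hf, (resDef ξ W).i ≫ j, by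
      have := (resDef ξ W).isPullback.paste_horiz hj
      rwa [specRes_comp] at this⟩
  let ζ₁ := mk f₁ hf₁ j₁ h₁
  let ζ₂ := mk f₂ hf₂ j₂ h₂
  let m₁ : Mor μ ζ₁ (resDef ξ W) := ⟨j₁, h₁.w, rfl⟩
  let m₂ : Mor μ ζ₂ (resDef ξ W) := ⟨j₂, h₂.w, rfl⟩
  haveI : IsAffine W.toScheme := hW
  have htop : IsAffineOpen (⊤ : W.toScheme.Opens) := isAffineOpen_top _
  obtain ⟨φ, hφ⟩ := Fam.exists_lift (g := 𝟙 B) (g₀ := μ) (fun _ => rfl) hμ htop
    (Fam.ofMor m₂ (Af ⊤)) (Fam.ofMor m₁ (Af ⊤))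
  obtain ⟨m, hm⟩ := exists_mor φ (fun _ h => h.1) (fun _ _ h h' => ⟨h.1.inf h'.1, le_top⟩)
    (top_unique (le_iSup (fun V : {V // Af (⊤ : W.toScheme.Opens) V} => V.1) ⟨⊤, htop, le_rfl⟩))
  have hc : j₂ ≫ m.hom = j₁ := by
    refine Mor.hom_ext_top htop
      (⟨j₂ ≫ m.hom, by
          show (j₂ ≫ m.hom) ≫ f₁ = _
          rw [Category.assoc, show m.hom ≫ f₁ = _ from m.hom_f, specMap_id, Category.comp_id]
          exact h₂.w,
        by
          show _ ≫ j₂ ≫ m.hom = _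
          rw [← Category.assoc]
          exact m.i_hom⟩ : Mor μ ζ₁ (resDef ξ W)) m₁ fun r => ?_
    refine Eq.trans ?_ (hφ ⊤ ⟨htop, le_rfl⟩ r)
    show _ = m₂.app ⊤ (φ.app ⊤ _ r)
    rw [← hm ⊤ ⟨htop, le_rfl⟩]
    show (j₂ ≫ m.hom).appLE (up ζ₁ ⊤) (up (resDef ξ W) ⊤) _ r =
      (m.hom.appLE (up ζ₁ ⊤) (up ζ₂ ⊤) (m.up_le ⊤) ≫ j₂.appLE _ _ (m₂.up_le ⊤)) r
    rw [Scheme.Hom.appLE_comp_appLE]
  exact ⟨(Mor.toIso m).iso.symm, by
    rw [Iso.symm_hom, Iso.inv_comp_eq]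
    exact ((Mor.toIso m).hom_f).symm, by
    rw [Iso.symm_hom, Iso.comp_inv_eq]
    exact hc.symm⟩

include hμ in
/-- Liftings over two opens glue if their intersection is affine and smooth over the field. -/
theorem nonempty_sup {V₁ V₂ : X.Opens} (L₁ : Lift μ ξ V₁) (L₂ : Lift μ ξ V₂)
    (hW : IsAffineOpen (V₁ ⊓ V₂)) [Smooth ((V₁ ⊓ V₂).ι ≫ x)] : Nonempty (Lift μ ξ (V₁ ⊔ V₂)) := by
  obtain ⟨O₁, r₁, s₁, t₁⟩ := L₁.exists_restrict hμ (inf_le_left : V₁ ⊓ V₂ ≤ V₁)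
  obtain ⟨O₂, r₂, s₂, t₂⟩ := L₂.exists_restrict hμ (inf_le_right : V₁ ⊓ V₂ ≤ V₂)
  haveI := L₁.flat
  haveI := L₂.flat
  obtain ⟨e, hef, hej⟩ := exists_iso hμ hW (f₁ := O₁.ι ≫ L₁.f) (f₂ := O₂.ι ≫ L₂.f) inferInstance inferInstance t₁ t₂
  let a : O₁.toScheme ⟶ L₁.T := O₁.ι
  let b : O₁.toScheme ⟶ L₂.T := e.hom ≫ O₂.ι
  have hab : a ≫ L₁.f = b ≫ L₂.f := by rw [Category.assoc, hef]
  let P := pushout a b
  let p : P ⟶ spec B := pushout.desc L₁.f L₂.f hab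
  let i₁ : L₁.T ⟶ P := pushout.inl a b
  let i₂ : L₂.T ⟶ P := pushout.inr a b
  have hsup : up ξ (V₁ ⊔ V₂) ≤ up ξ V₁ ⊔ up ξ V₂ := by
    rintro _ ⟨q, hq, rfl⟩
    rcases hq with hq | hq
    · exact Or.inl ⟨q, hq, rfl⟩
    · exact Or.inr ⟨q, hq, rfl⟩
  let lA := ξ.total.homOfLE (up_mono ξ (le_sup_left : V₁ ≤ V₁ ⊔ V₂))
  let lB := ξ.total.homOfLE (up_mono ξ (le_sup_right : V₂ ≤ V₁ ⊔ V₂))
  let wA := ξ.total.homOfLE (up_mono ξ (inf_le_left : V₁ ⊓ V₂ ≤ V₁))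
  let wB := ξ.total.homOfLE (up_mono ξ (inf_le_right : V₁ ⊓ V₂ ≤ V₂))
  obtain ⟨g, hgA, hgB⟩ := H17.exists_glue_two (X := ξ.total) (up ξ V₁) (up ξ V₂) (L₁.j ≫ i₁) (L₂.j ≫ i₂) (by
    have e1 : wA ≫ L₁.j ≫ i₁ = wB ≫ L₂.j ≫ i₂ := by
      rw [← Category.assoc, ← s₁.w, Category.assoc, ← Category.assoc wB, ← s₂.w, Category.assoc, ← hej,
        Category.assoc]
      exact congrArg (r₁ ≫ ·) (pushout.condition.trans (Category.assoc _ _ _))
    have := congrArg (ξ.total.homOfLE (up_inf ξ V₁ V₂) ≫ ·) e1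
    simp only [wA, wB, Scheme.homOfLE_homOfLE_assoc] at this
    exact this)
  have hgA' : lA ≫ ξ.total.homOfLE hsup ≫ g = L₁.j ≫ i₁ := by
    rw [Scheme.homOfLE_homOfLE_assoc]; exact hgA
  have hgB' : lB ≫ ξ.total.homOfLE hsup ≫ g = L₂.j ≫ i₂ := by
    rw [Scheme.homOfLE_homOfLE_assoc]; exact hgB
  have hfl : Flat p := by
    let U : ULift.{u} Bool → P.Opens := fun i => if i.down then i₁.opensRange else i₂.opensRange
    have hU : IsOpenCover U := eq_top_iff.2 fun q _ => by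
      rcases H17.OpenPushout.inl_or_inr a b q with h | h
      · exact Opens.mem_iSup.2 ⟨⟨true⟩, h⟩
      · exact Opens.mem_iSup.2 ⟨⟨false⟩, h⟩
    rw [IsZariskiLocalAtSource.iff_of_openCover (P := @Flat) (P.openCoverOfIsOpenCover U hU)]
    rintro ⟨_ | _⟩
    · show Flat (i₂.opensRange.ι ≫ p)
      rw [← MorphismProperty.cancel_left_of_respectsIso @Flat i₂.isoOpensRange.hom, ← Category.assoc,
        Scheme.Hom.isoOpensRange_hom_ι, pushout.inr_desc]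
      infer_instance
    · show Flat (i₁.opensRange.ι ≫ p)
      rw [← MorphismProperty.cancel_left_of_respectsIso @Flat i₁.isoOpensRange.hom, ← Category.assoc,
        Scheme.Hom.isoOpensRange_hom_ι, pushout.inl_desc]
      infer_instance
  refine ⟨⟨P, p, hfl, ξ.total.homOfLE hsup ≫ g, ?_⟩⟩
  refine H7Lim.FPDescent.glued_isPullback lA lB (fun q => ?_) wA wB ?_ i₁ i₂
    (H17.OpenPushout.inl_or_inr a b) (j₁ := a) (j₂ := b) (fun y z h => ?_) (gA := L₁.j) (gB := L₂.j) (gW := r₁)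
    s₁ ?_ ?_ ?_ _ hgA' hgB'
  · obtain ⟨v, hv, hvq⟩ := q.2
    rcases hv with hv | hv
    · exact Or.inl ⟨⟨q.1, v, hv, hvq⟩, Subtype.ext (congr($(ξ.total.homOfLE_ι (up_mono ξ le_sup_left)) ⟨q.1, v, hv, hvq⟩))⟩
    · exact Or.inr ⟨⟨q.1, v, hv, hvq⟩, Subtype.ext (congr($(ξ.total.homOfLE_ι (up_mono ξ le_sup_right)) ⟨q.1, v, hv, hvq⟩))⟩
  · show wA ≫ lA = wB ≫ lB
    rw [Scheme.homOfLE_homOfLE, Scheme.homOfLE_homOfLE]
  · obtain ⟨w, hw₁, hw₂⟩ := H17.OpenPushout.inl_eq_inr a b h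
    exact ⟨⟨w, hw₁⟩, ⟨w, hw₂⟩⟩
  · exact s₂.of_iso (Iso.refl _) e.symm (Iso.refl _) (Iso.refl _) (by
      rw [Iso.refl_hom, Category.id_comp, Iso.symm_hom, Iso.comp_inv_eq, hej]) (by simp [wB]) (by
      rw [Iso.refl_hom, Category.comp_id, Iso.symm_hom, Iso.inv_hom_id_assoc]) (by simp)
  · rw [show i₁ ≫ p = L₁.f from pushout.inl_desc _ _ _, ← Category.assoc, Scheme.homOfLE_ι]
    exact L₁.sq
  · rw [show i₂ ≫ p = L₂.f from pushout.inr_desc _ _ _, ← Category.assoc, Scheme.homOfLE_ι]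
    exact L₂.sq

end Groth.Agent.H24CurveDef
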