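import Groth.Agent.H22Alg.CurveAffine

/-!
# Opens of affine schemes of finite type over a field of dimension at most one are affine
-/

set_option autoImplicit false
set_option linter.style.haveILetI false

universe u

open CategoryTheory CategoryTheory.Limits AlgebraicGeometry TopologicalSpace

noncomputable section

namespace Groth.Agent.H24CurveDef

variable {k : Type u} [Field k]

/-- An affine scheme proper over a field has dimension at most zero. -/
theorem dim_le_zero_of_isProper {Y : Scheme.{u}} [IsAffine Y] (y : Y ⟶ Spec (CommRingCat.of k)) [IsProper y] :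
    topologicalKrullDim Y ≤ 0 := by
  haveI : IsAffineHom y := isAffineHom_of_isAffine y
  haveI : IsFinite y := IsFinite.iff_isProper_and_isAffineHom.2 ⟨inferInstance, inferInstance⟩
  have h : ((Scheme.ΓSpecIso (CommRingCat.of k)).inv ≫ y.appTop).hom.Finite :=
    RingHom.Finite.comp y.finite_appTop
      (RingHom.Finite.of_surjective _ (ConcreteCategory.bijective_of_isIso (Scheme.ΓSpecIso (CommRingCat.of k)).inv).2)
  letI := ((Scheme.ΓSpecIso (CommRingCat.of k)).inv ≫ y.appTop).hom.toAlgebra
  haveI : Module.Finite k Γ(Y, ⊤) := h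
  haveI : IsArtinianRing Γ(Y, ⊤) := IsArtinianRing.of_finite k Γ(Y, ⊤)
  haveI : Ring.KrullDimLE 0 Γ(Y, ⊤) := inferInstance
  rw [IsHomeomorph.topologicalKrullDim_eq _ Y.isoSpec.hom.homeomorph.isHomeomorph,
    show topologicalKrullDim (Spec Γ(Y, ⊤)) = ringKrullDim Γ(Y, ⊤) from
      PrimeSpectrum.topologicalKrullDim_eq_ringKrullDim _]
  exact (Ring.krullDimLE_iff).1 (inferInstanceAs (Ring.KrullDimLE 0 Γ(Y, ⊤)))

/-- An open of an affine open of a scheme of finite type and dimension at most one over a field is affine. -/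
theorem isAffineOpen_of_le {X : Scheme.{u}} (x : X ⟶ Spec (CommRingCat.of k)) [LocallyOfFiniteType x]
    [QuasiCompact x] (hdim : topologicalKrullDim X ≤ 1) {U W : X.Opens} (hU : IsAffineOpen U) (h : W ≤ U) :
    IsAffineOpen W := by
  letI : X.Over (Spec (CommRingCat.of k)) := ⟨x⟩
  haveI : LocallyOfFiniteType (X ↘ Spec (CommRingCat.of k)) := ‹LocallyOfFiniteType x›
  haveI : QuasiCompact (X ↘ Spec (CommRingCat.of k)) := ‹QuasiCompact x›
  haveI hN : IsLocallyNoetherian X := LocallyOfFiniteType.isLocallyNoetherian x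
  haveI : CompactSpace X := QuasiCompact.compactSpace_of_compactSpace x
  haveI : IsNoetherian X := {}
  haveI : IsAffine U.toScheme := hU
  letI : W.toScheme.Over (Spec (CommRingCat.of k)) := ⟨X.homOfLE h ≫ U.ι ≫ x⟩
  haveI : LocallyOfFiniteType (W.toScheme ↘ Spec (CommRingCat.of k)) :=
    inferInstanceAs (LocallyOfFiniteType (X.homOfLE h ≫ U.ι ≫ x))
  haveI : IsSeparated (U.ι ≫ x) := inferInstance
  haveI : IsSeparated (W.toScheme ↘ Spec (CommRingCat.of k)) :=
    inferInstanceAs (IsSeparated (X.homOfLE h ≫ U.ι ≫ x))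
  haveI : IsLocallyNoetherian W.toScheme := LocallyOfFiniteType.isLocallyNoetherian (W.toScheme ↘ Spec (CommRingCat.of k))
  haveI : NoetherianSpace X := inferInstance
  haveI : CompactSpace W.toScheme := isCompact_iff_compactSpace.1 (NoetherianSpace.isCompact (W : Set X))
  haveI : IsNoetherian W.toScheme := {}
  haveI : QuasiCompact (W.toScheme ↘ Spec (CommRingCat.of k)) :=
    (quasiCompact_iff_compactSpace _).2 inferInstance
  have hd : topologicalKrullDim W.toScheme ≤ 1 :=
    W.ι.isOpenEmbedding.isInducing.topologicalKrullDim_le.trans hdim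
  refine H22Alg.CurveAffine.isAffine_of_noProperComponent k hd fun C hC hC1 hp => ?_
  let J := (W.toScheme.irreducibleComponentIdeal C hC).radical
  let g : J.subscheme ⟶ U.toScheme := J.subschemeι ≫ X.homOfLE h
  haveI : IsProper (g ≫ U.ι ≫ x) := by
    have : g ≫ U.ι ≫ x = J.subschemeι ≫ (W.toScheme ↘ Spec (CommRingCat.of k)) := Category.assoc _ _ _
    rw [this]
    exact hp
  haveI : IsProper g := IsProper.of_comp g (U.ι ≫ x)
  haveI : IsPreimmersion g := inferInstanceAs (IsPreimmersion (J.subschemeι ≫ X.homOfLE h))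
  haveI : IsClosedImmersion g := IsClosedImmersion.of_isPreimmersion g g.isClosedMap.isClosed_range
  haveI : IsAffine J.subscheme := isAffine_of_isAffineHom g
  have h0 := dim_le_zero_of_isProper (g ≫ U.ι ≫ x)
  have hr : Set.range J.subschemeι = C := by
    rw [Scheme.IdealSheafData.range_subschemeι]; rfl
  have e : topologicalKrullDim J.subscheme = topologicalKrullDim C := by
    rw [← hr]
    exact IsHomeomorph.topologicalKrullDim_eq _ J.subschemeι.isClosedEmbedding.isEmbedding.toHomeomorph.isHomeomorph
  rw [e, hC1] at h0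
  exact absurd h0 (by decide)

end Groth.Agent.H24CurveDef
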