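import Groth.Agent.H24CurveDef.Glue
import Groth.Agent.H24CurveDef.OpensAffine
import Groth.Agent.S12310
import Groth.Agent.H28Def.Transport
import Groth.Agent.S9287
import Groth.Agent.H9CI.SyntomicScheme

/-!
# Generically smooth syntomic curves are unobstructed
-/

set_option autoImplicit false
set_option linter.style.haveILetI false

universe u

open CategoryTheory CategoryTheory.Limits AlgebraicGeometry IsLocalRing ArtFun ArtFun.Art Opposite
open TopologicalSpace

noncomputable section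

namespace Groth.Agent.H24CurveDef

open Groth.Agent.H24DefTan

variable {k : Type u} [Field k] {X : Scheme.{u}} {x : X ⟶ specPt k} {A B : Art k k}

/-- Deformations lift over an affine open syntomic over the field. -/
theorem nonempty_of_isAffineOpen {μ : B ⟶ A} (hμ : Function.Surjective μ) (ξ : DefSch X x A)
    (hlci : Synt.IsSyntomicMor x) {U : X.Opens} (hU : IsAffineOpen U) : Nonempty (Lift μ ξ U) := by
  letI : Algebra k Γ(X, U) := (H24Def.scalar x U).toAlgebra
  have he : hU.isoSpec.symm.hom ≫ U.ι ≫ x = Spec.map (CommRingCat.ofHom (algebraMap k Γ(X, U))) := by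
    rw [Iso.symm_hom, ← Category.assoc]
    exact H28Def.fromSpec_comp x hU
  have hs : Synt.IsSyntomic k Γ(X, U) := by
    have h1 := H9CI.isSyntomicMor_comp_openImmersion x hU.fromSpec hlci
    rw [H28Def.fromSpec_comp x hU] at h1
    exact H9CI.syntomicHom_algebraMap.mp ((H9CI.isSyntomicMor_Spec_iff _).mp h1)
  have hA : LCI.IsLCI k Γ(X, U) := ((S9287.result k Γ(X, U)).mp hs).2
  obtain ⟨q, hq⟩ := S12310.result k k Function.surjective_id Γ(X, U) hA μ hμ
    (H28Def.transDef hU.isoSpec.symm he (resDef ξ U)).cl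
  obtain ⟨ζ, rfl⟩ := Quotient.exists_rep q
  obtain ⟨e⟩ := Quotient.exact hq
  refine ⟨⟨ζ.total, ζ.f, ζ.flat, e.iso.inv ≫ pullback.fst ζ.f (specMap μ), ?_⟩⟩
  exact (IsPullback.of_hasPullback ζ.f (specMap μ)).of_iso e.iso (Iso.refl _) (Iso.refl _) (Iso.refl _)
    (by simp) (by rw [Iso.refl_hom, Category.comp_id]; exact e.hom_f.symm) (by simp) (by simp)

/-- A generically smooth syntomic scheme of dimension at most one over a field is unobstructed. -/
theorem isSmoothFunctor (x : X ⟶ specPt k) [LocallyOfFiniteType x] [QuasiCompact x]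
    (hdim : topologicalKrullDim X ≤ 1) (hlci : Synt.IsSyntomicMor x)
    (hsm : ∃ U : X.Opens, Dense (U : Set X) ∧ Smooth (U.ι ≫ x)) :
    IsSmoothFunctor (defFunctor (Λ := k) X x) := by
  classical
  obtain ⟨U₀, hdense, hsm⟩ := hsm
  haveI : IsLocallyNoetherian X := LocallyOfFiniteType.isLocallyNoetherian x
  haveI : CompactSpace X := QuasiCompact.compactSpace_of_compactSpace x
  haveI : IsNoetherian X := {}
  have hmax : H22Alg.DimOneAmple.MaxIn U₀ := by
    obtain ⟨Z, hZ, hgen, hmaxZ⟩ := H22Alg.DimOneAmple.exists_maxPoints (X := X)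
    intro y
    obtain ⟨η, hη, hηy⟩ := hgen y
    refine ⟨η, ?_, hηy⟩
    by_contra hηU
    let S : Set X := ⋃ ζ ∈ Z \ {η}, closure {ζ}
    have hS : IsClosed S := (hZ.sdiff).isClosed_biUnion fun ζ _ => isClosed_closure
    have hηS : η ∈ Sᶜ := fun hm => by
      obtain ⟨ζ, hζ, hm'⟩ := Set.mem_iUnion₂.1 hm
      exact hζ.2 (hmaxZ η hη ζ (specializes_iff_mem_closure.2 hm'))
    obtain ⟨w, hwS, hw⟩ := hdense.inter_open_nonempty Sᶜ hS.isOpen_compl ⟨η, hηS⟩
    obtain ⟨ζ, hζ, hζw⟩ := hgen w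
    have hζη : ζ = η := by
      by_contra hne
      exact hwS (Set.mem_iUnion₂.2 ⟨ζ, ⟨hζ, hne⟩, specializes_iff_mem_closure.1 hζw⟩)
    exact hηU ((hζη ▸ hζw).mem_open U₀.isOpen hw)
  let S : Set X := (U₀ : Set X)ᶜ
  have hcl : ∀ z ∈ S, IsClosed ({z} : Set X) := fun z hz => H22Alg.DimOneAmple.isClosed_of_notMem hdim hmax hz
  have hSfin : S.Finite := (H22Alg.DimOneAmple.finite_diff ⊤ U₀ fun y _ hy => hcl y hy).subset
    fun z hz => ⟨trivial, hz⟩
  haveI : Finite S := hSfin.to_subtype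
  have hP : ∀ s : S, ∃ U : X.Opens, IsAffineOpen U ∧ s.1 ∈ U ∧ ∀ z ∈ U, z ∈ S → z = s.1 := by
    intro s
    have hc : IsClosed (S \ {s.1}) := by
      have : S \ {s.1} = ⋃ z ∈ S \ {s.1}, {z} := (Set.biUnion_of_singleton _).symm
      rw [this]
      exact hSfin.sdiff.isClosed_biUnion fun z hz => hcl z hz.1
    obtain ⟨U, hU, hsU, hle⟩ := exists_isAffineOpen_mem_and_subset (X := X) (x := s.1)
      (U := ⟨(S \ {s.1})ᶜ, hc.isOpen_compl⟩) (fun h => h.2 rfl)
    exact ⟨U, hU, hsU, fun z hz hzS => by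
      by_contra hne
      exact hle hz ⟨hzS, hne⟩⟩
  choose P hPa hPs hPu using hP
  have hQ : ∀ z : U₀, ∃ U : X.Opens, IsAffineOpen U ∧ z.1 ∈ U ∧ U ≤ U₀ := fun z => by
    obtain ⟨U, hU, hz, hle⟩ := exists_isAffineOpen_mem_and_subset (X := X) (x := z.1) (U := U₀) z.2
    exact ⟨U, hU, hz, hle⟩
  choose Q hQa hQz hQle using hQ
  obtain ⟨t, ht⟩ := (NoetherianSpace.isCompact (U₀ : Set X)).elim_finite_subcover (fun z : U₀ => (Q z : Set X))
    (fun z => (Q z).isOpen) fun z hz => Set.mem_iUnion.2 ⟨⟨z, hz⟩, hQz _⟩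
  let V : Option (S ⊕ t) → X.Opens
    | none => ⊥
    | some (.inl s) => P s
    | some (.inr z) => Q z.1
  haveI := Fintype.ofFinite (Option (S ⊕ t))
  have hVa : ∀ i, IsAffineOpen (V i) := by
    rintro (_ | s | z)
    · exact isAffineOpen_bot X
    · exact hPa s
    · exact hQa _
  have hVle : ∀ i j, i ≠ j → V i ⊓ V j ≤ U₀ := by
    intro i j hne z hz
    by_contra hzU
    have key : ∀ l, z ∈ V l → ∃ s : S, l = some (.inl s) ∧ s.1 = z := by
      rintro (_ | s | w) hl
      · exact hl.elim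
      · exact ⟨s, rfl, (hPu s z hl hzU).symm⟩
      · exact absurd (hQle _ hl) hzU
    obtain ⟨s, rfl, hs⟩ := key i hz.1
    obtain ⟨s', rfl, hs'⟩ := key j hz.2
    exact hne (by rw [Subtype.ext (hs.trans hs'.symm)])
  have hcov : ⊤ ≤ Finset.univ.sup V := fun z _ => by
    by_cases hz : z ∈ U₀
    · obtain ⟨w, hw, hzw⟩ := Set.mem_iUnion₂.1 (ht hz)
      exact Finset.le_sup (f := V) (Finset.mem_univ (some (.inr ⟨w, hw⟩))) hzw
    · exact Finset.le_sup (f := V) (Finset.mem_univ (some (.inl ⟨z, hz⟩))) (hPs ⟨z, hz⟩)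
  intro B A μ hμ y
  obtain ⟨ξ, rfl⟩ := Quotient.exists_rep y
  have main : ∀ s : Finset (Option (S ⊕ t)), s.Nonempty → Nonempty (Lift μ ξ (s.sup V)) := by
    intro s hs
    induction hs using Finset.Nonempty.cons_induction with
    | singleton a =>
      rw [Finset.sup_singleton]
      exact nonempty_of_isAffineOpen hμ ξ hlci (hVa a)
    | cons a s has hs ih =>
      rw [Finset.sup_cons]
      obtain ⟨L₁⟩ := nonempty_of_isAffineOpen hμ ξ hlci (hVa a)
      obtain ⟨L₂⟩ := ih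
      have hle : V a ⊓ s.sup V ≤ U₀ := by
        rw [Finset.sup_inf_distrib_left]
        exact Finset.sup_le fun j hj => hVle a j fun h => has (h ▸ hj)
      haveI : Smooth ((V a ⊓ s.sup V).ι ≫ x) := by
        have : (V a ⊓ s.sup V).ι ≫ x = X.homOfLE hle ≫ U₀.ι ≫ x := by rw [Scheme.homOfLE_ι_assoc]
        rw [this]
        infer_instance
      exact nonempty_sup hμ L₁ L₂ (isAffineOpen_of_le x hdim (hVa a) inf_le_left)
  obtain ⟨L⟩ := main Finset.univ ⟨none, Finset.mem_univ _⟩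
  have htop : up ξ (Finset.univ.sup V) = ⊤ := top_unique fun p _ => by
    obtain ⟨q, rfl⟩ := (H28Def.isClosedImmersion_i ξ).2 p
    exact ⟨q, hcov trivial, rfl⟩
  haveI : IsIso (up ξ (Finset.univ.sup V)).ι := by
    rw [htop, ← Scheme.topIso_hom]
    infer_instance
  have hj : IsPullback (inv (up ξ (Finset.univ.sup V)).ι ≫ L.j) ξ.f L.f (specMap μ) :=
    L.sq.of_iso (asIso (up ξ (Finset.univ.sup V)).ι) (Iso.refl _) (Iso.refl _) (Iso.refl _)
      (by simp) (by simp) (by simp) (by simp)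
  let η : DefSch X x B := ⟨L.T, L.f, L.flat, ξ.i ≫ inv (up ξ (Finset.univ.sup V)).ι ≫ L.j, by
    have := ξ.isPullback.paste_horiz hj
    rwa [specRes_comp] at this⟩
  exact ⟨η.cl, Quotient.sound ⟨H24SmDef.Mor.baseChangeIso
    (g := μ) (η := η) (ξ := ξ) ⟨inv (up ξ (Finset.univ.sup V)).ι ≫ L.j, hj.w, rfl⟩⟩⟩

end Groth.Agent.H24CurveDef
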